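import Cfsg.Agent.McLRecog.CertV.Steps0
import Cfsg.Agent.McLRecog.CertV.Steps1
import Cfsg.Agent.McLRecog.CertV.Steps2

/-!
Generated coset enumeration certificate: validity.
-/

set_option autoImplicit false
set_option maxRecDepth 20000
set_option linter.style.longLine false

namespace Cfsg.Lib.McLRecog.CertV

open Cfsg.Lib.CosetCert

theorem steps_ok : Piece cert spec.length 0 5472 (part0 ++ part1 ++ part2) :=
  ((part0_ok.cat part1_ok).cat part2_ok)

theorem tab0 : cert.tabPart 5472 0 200 = true := by decide +kernel

theorem tab200 : cert.tabPart 5472 200 200 = true := by decide +kernel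

theorem tab400 : cert.tabPart 5472 400 200 = true := by decide +kernel

theorem tab600 : cert.tabPart 5472 600 200 = true := by decide +kernel

theorem tab800 : cert.tabPart 5472 800 200 = true := by decide +kernel

theorem tab1000 : cert.tabPart 5472 1000 200 = true := by decide +kernel

theorem tab1200 : cert.tabPart 5472 1200 200 = true := by decide +kernel

theorem tab1400 : cert.tabPart 5472 1400 200 = true := by decide +kernel

theorem tab1600 : cert.tabPart 5472 1600 101 = true := by decide +kernel

theorem rots_ok : cert.rotsOK rels spec = true := by decide +kernel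

theorem valid : cert.Valid rels :=
  steps_ok.valid (by decide) rots_ok (by decide +kernel) (Cert.tabPart_add (Cert.tabPart_add (Cert.tabPart_add (Cert.tabPart_add (Cert.tabPart_add (Cert.tabPart_add (Cert.tabPart_add (Cert.tabPart_add tab0 tab200) tab400) tab600) tab800) tab1000) tab1200) tab1400) tab1600)

theorem fin_len : cert.fin.length = 1701 := fin_length cert

end Cfsg.Lib.McLRecog.CertV
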